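import Groth.Agent.RegLoc.QuasiRegular
import Mathlib.RingTheory.Valuation.Basic

/-!
The order valuation of a regular local ring.
-/

universe u

namespace Groth.Agent.RegLoc

open MvPolynomial IsLocalRing WithZero

variable (A : Type u) [CommRing A] [IsRegularLocalRing A]

theorem exists_rsop : ∃ (d : ℕ) (x : Fin d → A),
    Ideal.span (Set.range x) = maximalIdeal A ∧ ringKrullDim A = d := by
  have hfg : (maximalIdeal A).FG := IsNoetherian.noetherian _
  obtain ⟨f, hf⟩ := Submodule.FG.exists_span_finset_card_eq_spanFinrank hfg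
  refine ⟨(maximalIdeal A).spanFinrank, fun i => (f.equivFinOfCardEq hf.1).symm i, ?_,
    IsRegularLocalRing.spanFinrank_maximalIdeal.symm⟩
  refine Eq.trans ?_ hf.2
  congr 1
  ext a
  constructor
  · rintro ⟨i, rfl⟩; exact ((f.equivFinOfCardEq hf.1).symm i).2
  · intro ha; exact ⟨f.equivFinOfCardEq hf.1 ⟨a, ha⟩, by simp⟩

theorem exists_notMem_pow {a : A} (ha : a ≠ 0) : ∃ n, a ∉ maximalIdeal A ^ (n + 1) := by
  by_contra h
  push Not at h
  refine ha ?_
  have hmem : a ∈ ⨅ n : ℕ, maximalIdeal A ^ n := by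
    rw [Submodule.mem_iInf]
    intro n
    exact Ideal.pow_le_pow_right (Nat.le_succ n) (h n)
  rwa [Ideal.iInf_pow_eq_bot_of_isLocalRing _ (maximalIdeal.isMaximal A).ne_top, Submodule.mem_bot] at hmem

/-- Membership in powers of the maximal ideal is multiplicative. -/
theorem mul_notMem_pow {a b : A} {p q : ℕ} (ha : a ∈ maximalIdeal A ^ p)
    (ha' : a ∉ maximalIdeal A ^ (p + 1)) (hb : b ∈ maximalIdeal A ^ q)
    (hb' : b ∉ maximalIdeal A ^ (q + 1)) : a * b ∉ maximalIdeal A ^ (p + q + 1) := by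
  obtain ⟨d, x, hx, hdim⟩ := exists_rsop A
  obtain ⟨G, hG, rfl⟩ := exists_homogeneous_eval x p (hx.symm ▸ ha)
  obtain ⟨H, hH, rfl⟩ := exists_homogeneous_eval x q (hx.symm ▸ hb)
  intro h
  rw [← map_mul] at h
  have h0 : MvPolynomial.map (residue A) (G * H) = 0 := by
    ext e
    rw [coeff_map, coeff_zero, residue_eq_zero_iff]
    exact coeff_mem_of_eval_mem hx hdim (hG.mul hH) h e
  rw [map_mul, mul_eq_zero] at h0
  have key : ∀ {n : ℕ} {F : MvPolynomial (Fin d) A}, F.IsHomogeneous n →
      MvPolynomial.map (residue A) F = 0 → eval x F ∈ maximalIdeal A ^ (n + 1) := by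
    intro n F hF hF0
    rw [eval_eq']
    refine Ideal.sum_mem _ fun e he => ?_
    rw [pow_succ', ← (hF.degree_eq_sum_deg_support he).symm]
    refine Ideal.mul_mem_mul ?_ (monEval_mem hx e)
    rw [← residue_eq_zero_iff, ← coeff_map, hF0, coeff_zero]
  rcases h0 with h0 | h0
  · exact ha' (key hG h0)
  · exact hb' (key hH h0)

variable {A}

open Classical in
/-- the order of an element (junk value zero at zero) -/
noncomputable def ord (a : A) : ℕ :=
  if ha : a ≠ 0 then Nat.find (exists_notMem_pow A ha) else 0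

theorem ord_spec {a : A} (ha : a ≠ 0) :
    a ∈ maximalIdeal A ^ ord a ∧ a ∉ maximalIdeal A ^ (ord a + 1) := by
  classical
  have h : ord a = Nat.find (exists_notMem_pow A ha) := dif_pos ha
  rw [h]
  refine ⟨?_, Nat.find_spec (exists_notMem_pow A ha)⟩
  cases hn : Nat.find (exists_notMem_pow A ha) with
  | zero => simp
  | succ n =>
    have := Nat.find_min (exists_notMem_pow A ha) (m := n) (by omega)
    simpa using this

theorem le_ord {a : A} (ha : a ≠ 0) {n : ℕ} (h : a ∈ maximalIdeal A ^ n) : n ≤ ord a := by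
  by_contra hlt
  exact (ord_spec ha).2 (Ideal.pow_le_pow_right (by omega) h)

theorem mul_ne_zero_and_ord {a b : A} (ha : a ≠ 0) (hb : b ≠ 0) :
    a * b ≠ 0 ∧ ord (a * b) = ord a + ord b := by
  obtain ⟨ha1, ha2⟩ := ord_spec ha
  obtain ⟨hb1, hb2⟩ := ord_spec hb
  have h := mul_notMem_pow A ha1 ha2 hb1 hb2
  have hne : a * b ≠ 0 := fun h0 => h (h0 ▸ zero_mem _)
  refine ⟨hne, le_antisymm ?_ (le_ord hne ?_)⟩
  · by_contra hlt
    exact h (Ideal.pow_le_pow_right (by omega) (ord_spec hne).1)
  · rw [pow_add]; exact Ideal.mul_mem_mul ha1 hb1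

variable (A)

theorem isDomain : IsDomain A := by
  haveI : NoZeroDivisors A := ⟨fun {a b} h => by
    by_contra hne
    push Not at hne
    exact (mul_ne_zero_and_ord hne.1 hne.2).1 h⟩
  exact NoZeroDivisors.to_isDomain A

open Classical in
/-- the order valuation -/
noncomputable def ordVal : Valuation A ℤᵐ⁰ where
  toFun a := if a = 0 then 0 else exp (-(ord a : ℤ))
  map_zero' := by simp
  map_one' := by
    rw [if_neg one_ne_zero]
    have h : ord (1 : A) = 0 := by
      by_contra h
      have h1 := Ideal.pow_le_self h (ord_spec (one_ne_zero (α := A))).1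
      exact (maximalIdeal.isMaximal A).ne_top ((Ideal.eq_top_iff_one _).2 h1)
    simp [h]
  map_mul' a b := by
    by_cases ha : a = 0
    · simp [ha]
    by_cases hb : b = 0
    · simp [hb]
    obtain ⟨hne, hord⟩ := mul_ne_zero_and_ord ha hb
    rw [if_neg hne, if_neg ha, if_neg hb, ← exp_add, hord]
    congr 1
    push_cast
    ring
  map_add_le_max' a b := by
    by_cases ha : a = 0
    · simp [ha]
    by_cases hb : b = 0
    · simp [hb]
    by_cases hab : a + b = 0
    · simp [hab]
    rw [if_neg hab, if_neg ha, if_neg hb]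
    have h : min (ord a) (ord b) ≤ ord (a + b) := le_ord hab (Ideal.add_mem _
      (Ideal.pow_le_pow_right (min_le_left _ _) (ord_spec ha).1)
      (Ideal.pow_le_pow_right (min_le_right _ _) (ord_spec hb).1))
    rcases min_le_iff.1 h with h' | h'
    · exact le_max_of_le_left (exp_le_exp.2 (by omega))
    · exact le_max_of_le_right (exp_le_exp.2 (by omega))

variable {A}

theorem ordVal_apply {a : A} (ha : a ≠ 0) : ordVal A a = exp (-(ord a : ℤ)) := by
  classical
  exact if_neg ha

theorem ordVal_eq_zero_iff {a : A} : ordVal A a = 0 ↔ a = 0 := by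
  refine ⟨fun h => ?_, fun h => by rw [h, map_zero]⟩
  by_contra ha
  rw [ordVal_apply ha] at h
  exact exp_ne_zero h

theorem ordVal_le_iff (a : A) (n : ℕ) :
    ordVal A a ≤ exp (-(n : ℤ)) ↔ a ∈ maximalIdeal A ^ n := by
  by_cases ha : a = 0
  · simp [ha]
  rw [ordVal_apply ha, exp_le_exp, neg_le_neg_iff, Nat.cast_le]
  exact ⟨fun h => Ideal.pow_le_pow_right h (ord_spec ha).1, le_ord ha⟩

theorem ordVal_le_one (a : A) : ordVal A a ≤ 1 := by
  simpa using (ordVal_le_iff a 0).2 (by simp)

end Groth.Agent.RegLoc
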