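import Groth.Agent.RegLoc.Order
import Mathlib.RingTheory.Polynomial.UniqueFactorization
import Mathlib.RingTheory.IntegralClosure.IntegrallyClosed
import Mathlib.RingTheory.Localization.Integral
import Mathlib.RingTheory.Filtration
import Mathlib.RingTheory.IntegralClosure.IsIntegral.AlmostIntegral
import Mathlib.RingTheory.MvPolynomial.Homogeneous

/-!
A regular local ring is integrally closed.
-/

universe u

namespace Groth.Agent.RegLoc

open MvPolynomial IsLocalRing

theorem dvd_of_forall_pow_dvd_mul_pow {S : Type*} [CommRing S] [IsDomain S]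
    [UniqueFactorizationMonoid S] {f g D : S} (hf : f ≠ 0) (hD : D ≠ 0)
    (h : ∀ i, f ^ i ∣ D * g ^ i) : f ∣ g := by
  obtain ⟨f', g', c, hrel, rfl, rfl⟩ := UniqueFactorizationMonoid.exists_reduced_factors f hf g
  have hc : c ≠ 0 := left_ne_zero_of_mul hf
  have hu : IsUnit f' := by
    by_contra hu
    obtain ⟨n, hn⟩ := FiniteMultiplicity.of_not_isUnit hu hD
    have h1 := h (n + 1)
    rw [mul_pow, mul_pow, mul_left_comm, mul_dvd_mul_iff_left (pow_ne_zero _ hc)] at h1
    exact hn (hrel.pow.dvd_of_dvd_mul_right h1)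
  exact mul_dvd_mul_left c hu.dvd

section lifts

variable {A : Type u} [CommRing A] [IsLocalRing A] {d : ℕ} {x : Fin d → A}

theorem eval_mem_succ_of_map_eq_zero (hx : Ideal.span (Set.range x) = maximalIdeal A) {n : ℕ}
    {F : MvPolynomial (Fin d) A} (hF : F.IsHomogeneous n)
    (hF0 : MvPolynomial.map (residue A) F = 0) : eval x F ∈ maximalIdeal A ^ (n + 1) := by
  rw [eval_eq']
  refine Ideal.sum_mem _ fun e he => ?_
  rw [pow_succ', ← (hF.degree_eq_sum_deg_support he).symm]
  refine Ideal.mul_mem_mul ?_ (monEval_mem hx e)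
  rw [← residue_eq_zero_iff, ← coeff_map, hF0, coeff_zero]

theorem exists_homogeneous_lift {n : ℕ} {h : MvPolynomial (Fin d) (ResidueField A)}
    (hh : h.IsHomogeneous n) :
    ∃ H : MvPolynomial (Fin d) A, H.IsHomogeneous n ∧ MvPolynomial.map (residue A) H = h := by
  classical
  refine ⟨∑ e ∈ h.support, monomial e (Function.surjInv residue_surjective (coeff e h)),
    IsHomogeneous.sum _ _ _ fun e he => isHomogeneous_monomial _ ?_, ?_⟩
  · rw [Finsupp.degree_eq_weight_one (R := ℕ)]; exact hh (mem_support_iff.mp he)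
  · rw [map_sum]
    conv_rhs => rw [h.as_sum]
    exact Finset.sum_congr rfl fun e _ => by
      rw [map_monomial, Function.surjInv_eq residue_surjective]

theorem exists_homogeneous_factor {k : Type*} [CommRing k] [IsDomain k] {σ : Type*}
    {f g : MvPolynomial σ k} {p n : ℕ} (hf : f.IsHomogeneous p) (hg : g.IsHomogeneous n)
    (hg0 : g ≠ 0) (hdvd : f ∣ g) :
    ∃ j h, p + j = n ∧ h.IsHomogeneous j ∧ f * h = g := by
  classical
  obtain ⟨h, rfl⟩ := hdvd
  have e : f * h = ∑ j ∈ Finset.range (h.totalDegree + 1),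
      (if n = p + j then f * homogeneousComponent j h else 0) := by
    conv_lhs => rw [show f * h = homogeneousComponent n (f * h) by
      rw [homogeneousComponent_of_mem hg, if_pos rfl]]
    conv_lhs => rw [← sum_homogeneousComponent (φ := h), Finset.mul_sum, map_sum]
    refine Finset.sum_congr rfl fun j _ => ?_
    rw [homogeneousComponent_of_mem (hf.mul (homogeneousComponent_isHomogeneous j h))]
  by_cases hex : ∃ j ∈ Finset.range (h.totalDegree + 1), n = p + j
  · obtain ⟨j, hj, rfl⟩ := hex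
    refine ⟨j, homogeneousComponent j h, rfl, homogeneousComponent_isHomogeneous j h, ?_⟩
    rw [e, Finset.sum_eq_single j (fun i _ hi => if_neg (by omega)) (fun hh => absurd hj hh),
      if_pos rfl]
  · push Not at hex
    exact absurd (e.trans (Finset.sum_eq_zero fun j hj => if_neg (hex j hj))) hg0

end lifts

variable {A : Type u} [CommRing A] [IsRegularLocalRing A]

theorem exists_mem_pow_succ_of_almost_integral {a r D : A} {n : ℕ} (ha : a ≠ 0) (hD : D ≠ 0)
    (hr : r ∈ maximalIdeal A ^ n) (h : ∀ i, a ^ i ∣ D * r ^ i) :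
    ∃ c, r - a * c ∈ maximalIdeal A ^ (n + 1) := by
  by_cases hr' : r ∈ maximalIdeal A ^ (n + 1)
  · exact ⟨0, by simpa using hr'⟩
  haveI := isDomain A
  have hr0 : r ≠ 0 := fun h0 => hr' (h0 ▸ zero_mem _)
  obtain ⟨d, x, hx, hdim⟩ := exists_rsop A
  obtain ⟨F, hF, hFa⟩ := exists_homogeneous_eval x (ord a) (hx.symm ▸ (ord_spec ha).1)
  obtain ⟨G, hG, hGr⟩ := exists_homogeneous_eval x n (hx.symm ▸ hr)
  obtain ⟨P, hP, hPD⟩ := exists_homogeneous_eval x (ord D) (hx.symm ▸ (ord_spec hD).1)
  have hne : ∀ {b : A} {N : ℕ} {B : MvPolynomial (Fin d) A}, B.IsHomogeneous N → eval x B = b →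
      b ∉ maximalIdeal A ^ (N + 1) → MvPolynomial.map (residue A) B ≠ 0 :=
    fun hB hBb hb h0 => hb (hBb ▸ eval_mem_succ_of_map_eq_zero hx hB h0)
  have hord : ord r = n := le_antisymm (by
    by_contra hlt
    exact hr' (Ideal.pow_le_pow_right (by omega) (ord_spec hr0).1)) (le_ord hr0 hr)
  have hdvd : MvPolynomial.map (residue A) F ∣ MvPolynomial.map (residue A) G := by
    refine dvd_of_forall_pow_dvd_mul_pow (hne hF hFa (ord_spec ha).2)
      (hne hP hPD (ord_spec hD).2) fun i => ?_
    obtain ⟨e, he⟩ := h i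
    have he0 : e ≠ 0 := fun h0 => mul_ne_zero hD (pow_ne_zero i hr0) (by rw [he, h0, mul_zero])
    have hpow : ∀ {b : A}, b ≠ 0 → ∀ j, ord (b ^ j) = ord b * j := by
      intro b hb j
      induction j with
      | zero =>
        rw [pow_zero, mul_zero]
        by_contra h1
        exact (maximalIdeal.isMaximal A).ne_top ((Ideal.eq_top_iff_one _).2
          (Ideal.pow_le_self h1 (ord_spec (one_ne_zero (α := A))).1))
      | succ j ih => rw [pow_succ, (mul_ne_zero_and_ord (pow_ne_zero j hb) hb).2, ih]; ring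
    have hdeg : ord D + n * i = ord a * i + ord e := by
      rw [← hord, ← hpow hr0, ← hpow ha, ← (mul_ne_zero_and_ord hD (pow_ne_zero i hr0)).2,
        ← (mul_ne_zero_and_ord (pow_ne_zero i ha) he0).2, he]
    obtain ⟨E, hE, hEe⟩ := exists_homogeneous_eval x (ord e) (hx.symm ▸ (ord_spec he0).1)
    have h1 : (P * G ^ i - F ^ i * E).IsHomogeneous (ord D + n * i) :=
      (hP.mul (hG.pow i)).sub (hdeg ▸ (hF.pow i).mul hE)
    have h2 : MvPolynomial.map (residue A) (P * G ^ i - F ^ i * E) = 0 := by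
      ext t
      rw [coeff_map, coeff_zero, residue_eq_zero_iff]
      refine coeff_mem_of_eval_mem hx hdim h1 ?_ t
      rw [map_sub, map_mul, map_mul, map_pow, map_pow, hPD, hGr, hFa, hEe, he, sub_self]
      exact zero_mem _
    rw [map_sub, map_mul, map_mul, map_pow, map_pow, sub_eq_zero] at h2
    exact ⟨_, h2⟩
  obtain ⟨j, q, hj, hq, hFq⟩ := exists_homogeneous_factor (hF.map _) (hG.map _)
    (hne hG hGr hr') hdvd
  obtain ⟨H, hH, hHq⟩ := exists_homogeneous_lift hq
  refine ⟨eval x H, ?_⟩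
  have := eval_mem_succ_of_map_eq_zero hx (hG.sub (hj ▸ hF.mul hH))
    (by rw [map_sub, map_mul, hHq, hFq, sub_self])
  rwa [map_sub, map_mul, hFa, hGr] at this

theorem mem_span_of_almost_integral {a b D : A} (ha : a ≠ 0) (hD : D ≠ 0)
    (h : ∀ i, a ^ i ∣ D * b ^ i) : a ∣ b := by
  have key : ∀ n, ∃ c, b - a * c ∈ maximalIdeal A ^ n := by
    intro n
    induction n with
    | zero => exact ⟨0, by simp⟩
    | succ n ih =>
      obtain ⟨c, hc⟩ := ih
      obtain ⟨c', hc'⟩ := exists_mem_pow_succ_of_almost_integral ha hD hc fun i => by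
        rw [sub_eq_add_neg, add_pow, Finset.mul_sum]
        refine Finset.dvd_sum fun j hj => ?_
        have hj' : j ≤ i := Nat.lt_succ_iff.mp (Finset.mem_range.mp hj)
        have : a ^ i ∣ (D * b ^ j) * (-(a * c)) ^ (i - j) := by
          rw [← Nat.add_sub_cancel' hj', pow_add, Nat.add_sub_cancel_left]
          refine mul_dvd_mul (h j) ?_
          exact pow_dvd_pow_of_dvd (dvd_neg.mpr (dvd_mul_right a c)) _
        rw [← mul_assoc, ← mul_assoc]
        exact this.mul_right _
      exact ⟨c + c', by rwa [mul_add, ← sub_sub]⟩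
  rw [← Ideal.mem_span_singleton]
  have hmem : Ideal.Quotient.mk (Ideal.span {a}) b ∈
      (⨅ n : ℕ, maximalIdeal A ^ n • ⊤ : Submodule A (A ⧸ Ideal.span {a})) := by
    rw [Submodule.mem_iInf]
    intro n
    obtain ⟨c, hc⟩ := key n
    have e : Ideal.Quotient.mk (Ideal.span {a}) b =
        (b - a * c) • (Ideal.Quotient.mk (Ideal.span {a}) 1) := by
      rw [Algebra.smul_def, map_one, mul_one, Ideal.Quotient.algebraMap_eq, Ideal.Quotient.eq]
      simpa using Ideal.mem_span_singleton.mpr (dvd_mul_right a c)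
    rw [e]
    exact Submodule.smul_mem_smul hc Submodule.mem_top
  rw [Ideal.iInf_pow_smul_eq_bot_of_isLocalRing _ (maximalIdeal.isMaximal A).ne_top,
    Submodule.mem_bot] at hmem
  exact Ideal.Quotient.eq_zero_iff_mem.mp hmem

theorem isIntegrallyClosed : IsIntegrallyClosed A := by
  haveI := isDomain A
  let K := FractionRing A
  rw [isIntegrallyClosed_iff K]
  intro z hz
  obtain ⟨a, ha, hfrac⟩ : IsAlmostIntegral A z :=
    hz.isAlmostIntegral
  obtain ⟨b, s, hs, rfl⟩ := IsFractionRing.div_surjective A z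
  have hs0 : s ≠ 0 := nonZeroDivisors.ne_zero hs
  obtain ⟨c, rfl⟩ := mem_span_of_almost_integral (b := b) hs0 (nonZeroDivisors.ne_zero ha) fun i => by
    obtain ⟨e, he⟩ := hfrac i
    refine ⟨e, IsFractionRing.injective A K ?_⟩
    rw [Algebra.smul_def, div_pow, ← mul_div_assoc, eq_div_iff (pow_ne_zero _
      ((map_ne_zero_iff _ (IsFractionRing.injective A K)).mpr hs0))] at he
    rw [map_mul, map_mul, map_pow, map_pow, ← he, mul_comm]
  exact ⟨c, by rw [map_mul, mul_div_cancel_left₀ _
    ((map_ne_zero_iff _ (IsFractionRing.injective A K)).mpr hs0)]⟩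

end Groth.Agent.RegLoc
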