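import Groth.Agent.RegLoc.Order

/-!
A regular quotient of a regular (or just Noetherian) local ring is cut out by linear conditions.
-/

universe u

namespace Groth.Agent.RegLoc

open MvPolynomial IsLocalRing

theorem inf_sq_le_mul_of_regular_quotient {R : Type u} [CommRing R] [IsLocalRing R] [IsNoetherianRing R]
    (n : Ideal R) (hn : n ≠ ⊤) [IsRegularRing (R ⧸ n)] :
    n ⊓ maximalIdeal R ^ 2 ≤ maximalIdeal R * n := by
  set m := maximalIdeal R
  haveI : Nontrivial (R ⧸ n) := Ideal.Quotient.nontrivial_iff.2 hn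
  haveI : IsLocalRing (R ⧸ n) :=
    IsLocalRing.of_surjective' (Ideal.Quotient.mk n) Ideal.Quotient.mk_surjective
  haveI : IsRegularLocalRing (R ⧸ n) := IsRegularLocalRing.of_isRegularRing_of_isLocalRing _
  obtain ⟨d, x, hx, hdim⟩ := exists_rsop (R ⧸ n)
  choose z hz using fun i => Ideal.Quotient.mk_surjective (x i)
  have hmap : m.map (Ideal.Quotient.mk n) = maximalIdeal (R ⧸ n) :=
    IsLocalRing.eq_maximalIdeal (SopLength.isMaximal_map_maximalIdeal (IsLocalRing.le_maximalIdeal hn))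
  have hcomap : (maximalIdeal (R ⧸ n)).comap (Ideal.Quotient.mk n) = m := by
    rw [← hmap, Ideal.comap_map_of_surjective' _ Ideal.Quotient.mk_surjective, Ideal.mk_ker,
      sup_eq_left.2 (IsLocalRing.le_maximalIdeal hn)]
  let Z := Ideal.span (Set.range z)
  have hm : m ≤ n ⊔ Z := by
    intro a ha
    have h1 : Ideal.Quotient.mk n a ∈ Z.map (Ideal.Quotient.mk n) := by
      rw [Ideal.map_span, ← Set.range_comp, show (Ideal.Quotient.mk n) ∘ z = x from funext hz, hx, ← hmap]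
      exact Ideal.mem_map_of_mem _ ha
    rw [← Ideal.mem_comap, Ideal.comap_map_of_surjective' _ Ideal.Quotient.mk_surjective, Ideal.mk_ker,
      sup_comm] at h1
    exact h1
  have hZ : Z ≤ m := Ideal.span_le.2 fun _ ⟨i, hi⟩ => hi ▸ by
    show z i ∈ m
    rw [← hcomap, Ideal.mem_comap, hz, ← hx]
    exact Ideal.subset_span ⟨i, rfl⟩
  have hpow : ∀ j, m ^ (j + 1) ≤ n * m ^ j ⊔ Z ^ (j + 1) := by
    intro j
    induction j with
    | zero => simpa using hm
    | succ j ih =>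
      calc m ^ (j + 1 + 1) = m ^ (j + 1) * m := pow_succ _ _
        _ ≤ (n * m ^ j ⊔ Z ^ (j + 1)) * m := Ideal.mul_mono ih le_rfl
        _ = n * m ^ (j + 1) ⊔ Z ^ (j + 1) * m := by rw [Ideal.sup_mul, pow_succ m j, mul_assoc]
        _ ≤ n * m ^ (j + 1) ⊔ Z ^ (j + 1 + 1) := by
          refine sup_le le_sup_left ((Ideal.mul_mono le_rfl hm).trans ?_)
          rw [Ideal.mul_sup, pow_succ Z (j + 1)]
          refine sup_le_sup ?_ le_rfl
          rw [mul_comm]
          exact Ideal.mul_mono le_rfl (Ideal.pow_right_mono hZ _)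
  have hstep : ∀ j, n ⊓ m ^ (j + 2) ≤ m * n ⊔ (n ⊓ m ^ (j + 3)) := by
    intro j a ha
    obtain ⟨han, ham⟩ := Submodule.mem_inf.1 ha
    have hmem : a ∈ n * m ^ (j + 1) ⊔ Z ^ (j + 1 + 1) := hpow (j + 1) (show a ∈ m ^ (j + 1 + 1) from ham)
    obtain ⟨b, hb, c, hc, rfl⟩ := Submodule.mem_sup.1 hmem
    obtain ⟨G, hG, rfl⟩ := exists_homogeneous_eval z (j + 1 + 1) hc
    have hbn : b ∈ n := (Ideal.mul_le_left : n * m ^ (j + 1) ≤ n) hb
    have hcn : eval z G ∈ n := by simpa using sub_mem han hbn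
    have hG0 : eval x (MvPolynomial.map (Ideal.Quotient.mk n) G) = 0 := by
      rw [eval_map, ← Ideal.Quotient.eq_zero_iff_mem.2 hcn, ← coe_eval₂Hom]
      show _ = Ideal.Quotient.mk n (eval₂ (RingHom.id R) z G)
      rw [eval₂_comp_left (Ideal.Quotient.mk n), RingHom.comp_id, show (Ideal.Quotient.mk n) ∘ z = x from funext hz]
      rfl
    have hcoef : ∀ e, G.coeff e ∈ m := fun e => by
      have := coeff_mem_of_eval_mem hx hdim (hG.map (Ideal.Quotient.mk n)) (by rw [hG0]; exact zero_mem _) e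
      rwa [coeff_map, ← Ideal.mem_comap, hcomap] at this
    refine Submodule.mem_sup.2 ⟨b, ?_, eval z G, ⟨hcn, ?_⟩, rfl⟩
    · rw [mul_comm]
      refine Ideal.mul_mono le_rfl ?_ hb
      exact Ideal.pow_le_self (Nat.succ_ne_zero j)
    · rw [eval_eq']
      refine Ideal.sum_mem _ fun e he => ?_
      rw [pow_succ' m (j + 2)]
      refine Ideal.mul_mem_mul (hcoef e) ?_
      rw [show j + 2 = ∑ i, e i by
        rw [← Finsupp.degree_eq_sum]; exact hG.degree_eq_sum_deg_support he, ← Finset.prod_pow_eq_pow_sum]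
      exact Ideal.prod_mem_prod fun i _ => Ideal.pow_mem_pow (hZ (Ideal.subset_span ⟨i, rfl⟩)) _
  have hall : ∀ j, n ⊓ m ^ 2 ≤ m * n ⊔ (n ⊓ m ^ (j + 2)) := by
    intro j
    induction j with
    | zero => exact le_sup_right
    | succ j ih => exact ih.trans (sup_le le_sup_left (hstep j))
  intro a ha
  have hne : m * n ≠ ⊤ := fun h => hn (top_le_iff.1 (h ▸ Ideal.mul_le_right))
  haveI : Nontrivial (R ⧸ m * n) := Ideal.Quotient.nontrivial_iff.2 hne
  haveI : IsLocalRing (R ⧸ m * n) :=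
    IsLocalRing.of_surjective' (Ideal.Quotient.mk _) Ideal.Quotient.mk_surjective
  have hbot : Ideal.Quotient.mk (m * n) a ∈ (⊥ : Ideal (R ⧸ m * n)) := by
    rw [← Ideal.iInf_pow_eq_bot_of_isLocalRing (maximalIdeal (R ⧸ m * n)) (maximalIdeal.isMaximal _).ne_top,
      Submodule.mem_iInf]
    intro j
    have h1 := Ideal.mem_map_of_mem (Ideal.Quotient.mk (m * n)) (hall j ha)
    rw [Ideal.map_sup, Ideal.map_quotient_self, bot_sup_eq] at h1
    have h2 := Ideal.map_mono (inf_le_right : n ⊓ m ^ (j + 2) ≤ m ^ (j + 2)) h1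
    rw [Ideal.map_pow] at h2
    refine Ideal.pow_le_pow_right (Nat.le_add_right j 2) (Ideal.pow_right_mono ?_ _ h2)
    exact IsLocalRing.le_maximalIdeal (SopLength.isMaximal_map_maximalIdeal (IsLocalRing.le_maximalIdeal hne)).ne_top
  rwa [Ideal.mem_bot, Ideal.Quotient.eq_zero_iff_mem] at hbot

end Groth.Agent.RegLoc
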