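import Groth.Agent.SopLength.Basic

/-!
Quasi-regularity of a regular system of parameters of a regular local ring, by a length count.
-/

universe u

namespace Groth.Agent.RegLoc

open MvPolynomial IsLocalRing

theorem exists_homogeneous_eval {R : Type u} [CommRing R] {σ : Type*} (x : σ → R) (n : ℕ) {a : R}
    (ha : a ∈ Ideal.span (Set.range x) ^ n) :
    ∃ G : MvPolynomial σ R, G.IsHomogeneous n ∧ eval x G = a := by
  induction n generalizing a with
  | zero => exact ⟨C a, isHomogeneous_C σ a, eval_C a⟩
  | succ n ih =>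
    rw [pow_succ] at ha
    refine Submodule.mul_induction_on ha (fun p hp q hq => ?_) (fun p q ⟨G, hG, hp⟩ ⟨H, hH, hq⟩ =>
      ⟨G + H, hG.add hH, by rw [map_add, hp, hq]⟩)
    obtain ⟨G, hG, rfl⟩ := ih hp
    suffices h : ∃ L : MvPolynomial σ R, L.IsHomogeneous 1 ∧ eval x L = q by
      obtain ⟨L, hL, rfl⟩ := h
      exact ⟨G * L, hG.mul hL, map_mul _ _ _⟩
    induction hq using Submodule.span_induction with
    | mem q hq => obtain ⟨i, rfl⟩ := hq; exact ⟨X i, isHomogeneous_X R i, eval_X i⟩
    | zero => exact ⟨0, isHomogeneous_zero σ R 1, map_zero _⟩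
    | add p q _ _ hp hq =>
      obtain ⟨G, hG, rfl⟩ := hp
      obtain ⟨H, hH, rfl⟩ := hq
      exact ⟨G + H, hG.add hH, map_add _ _ _⟩
    | smul r q _ hq =>
      obtain ⟨G, hG, rfl⟩ := hq
      exact ⟨C r * G, hG.C_mul r, by rw [map_mul, eval_C, smul_eq_mul]⟩

theorem length_le_add_card {R : Type u} [CommRing R] [IsLocalRing R] (K : Ideal R) :
    ∀ (s : Finset R), (∀ g ∈ s, ∀ a ∈ maximalIdeal R, a * g ∈ K) →
      Module.length R (R ⧸ K) ≤ Module.length R (R ⧸ (K ⊔ Ideal.span (s : Set R))) + s.card := by
  classical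
  intro s
  induction s using Finset.induction_on generalizing K with
  | empty =>
    intro _
    rw [Finset.coe_empty, Ideal.span_empty, sup_bot_eq, Finset.card_empty, Nat.cast_zero, add_zero]
  | insert g s hg ih =>
    intro hs
    let K' := K ⊔ Ideal.span {g}
    have h2 := ih K' fun h hh a ha => Ideal.mem_sup_left (hs h (Finset.mem_insert_of_mem hh) a ha)
    have h3 : K' ⊔ Ideal.span (s : Set R) = K ⊔ Ideal.span ((insert g s : Finset R) : Set R) := by
      rw [sup_assoc, ← Ideal.span_union, Finset.coe_insert, ← Set.insert_eq]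
    rw [h3] at h2
    let μ : R →ₗ[R] R ⧸ K := Submodule.mkQ K ∘ₗ LinearMap.mulRight R g
    have hker : maximalIdeal R ≤ LinearMap.ker μ := fun a ha =>
      (Submodule.Quotient.mk_eq_zero K).2 (hs g (Finset.mem_insert_self _ _) a ha)
    have hμ : Module.length R (LinearMap.range μ) ≤ 1 := by
      haveI : IsSimpleModule R (R ⧸ maximalIdeal R) :=
        isSimpleModule_iff_isCoatom.2 (maximalIdeal.isMaximal R).out
      rw [← μ.quotKerEquivRange.length_eq, ← Module.length_eq_one R (R ⧸ maximalIdeal R)]
      exact SopLength.length_mono hker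
    have hle : K ≤ K' := le_sup_left
    have hex : Function.Exact (LinearMap.range μ).subtype (Submodule.factor hle) := by
      rw [LinearMap.exact_iff, Submodule.range_subtype]
      ext q
      obtain ⟨q, rfl⟩ := Submodule.Quotient.mk_surjective _ q
      rw [LinearMap.mem_ker]
      show Submodule.Quotient.mk q = 0 ↔ _
      rw [Submodule.Quotient.mk_eq_zero, Submodule.mem_sup]
      constructor
      · rintro ⟨a, ha, c, hc, rfl⟩
        obtain ⟨z, rfl⟩ := Ideal.mem_span_singleton'.1 hc
        refine ⟨z, (Submodule.Quotient.eq _).2 ?_⟩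
        show z * g - (a + z * g) ∈ K
        rw [sub_add_cancel_right]
        exact neg_mem ha
      · rintro ⟨z, hz⟩
        have h4 : z * g - q ∈ K := (Submodule.Quotient.eq _).1 hz
        exact ⟨-(z * g - q), neg_mem h4, z * g, Ideal.mem_span_singleton'.2 ⟨z, rfl⟩, by ring⟩
    rw [Module.length_eq_add_of_exact (LinearMap.range μ).subtype (Submodule.factor hle)
        (Submodule.injective_subtype _) (Submodule.factor_surjective hle) hex,
      Finset.card_insert_of_notMem hg, Nat.cast_succ]
    exact (add_le_add hμ h2).trans (le_of_eq (by ring))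

variable {A : Type u} [CommRing A] [IsLocalRing A] {d : ℕ} {x : Fin d → A}

/-- the value of a monomial at `x` -/
def monEval (x : Fin d → A) (e : Fin d →₀ ℕ) : A := ∏ i, x i ^ e i

omit [IsLocalRing A] in
theorem monEval_add (e f : Fin d →₀ ℕ) : monEval x (e + f) = monEval x e * monEval x f := by
  simp [monEval, pow_add, Finset.prod_mul_distrib]

theorem monEval_mem (hx : Ideal.span (Set.range x) = maximalIdeal A) (e : Fin d →₀ ℕ) :
    monEval x e ∈ maximalIdeal A ^ e.degree := by
  have h : ∀ i, x i ^ e i ∈ maximalIdeal A ^ e i := fun i =>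
    Ideal.pow_mem_pow (hx ▸ Ideal.subset_span ⟨i, rfl⟩) _
  have := Ideal.prod_mem_prod (ι := Fin d) (s := Finset.univ) fun i _ => h i
  rwa [Finset.prod_pow_eq_pow_sum, ← Finsupp.degree_eq_sum] at this

theorem eval_mem (hx : Ideal.span (Set.range x) = maximalIdeal A) {G : MvPolynomial (Fin d) A} {n : ℕ}
    (hG : G.IsHomogeneous n) : eval x G ∈ maximalIdeal A ^ n := by
  rw [eval_eq']
  refine Ideal.sum_mem _ fun e he => Ideal.mul_mem_left _ _ ?_
  rw [← hG.degree_eq_sum_deg_support he |>.symm] 
  exact monEval_mem hx e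

/-- A regular system of parameters is quasi-regular. -/
theorem coeff_mem_of_eval_mem [IsNoetherianRing A] (hx : Ideal.span (Set.range x) = maximalIdeal A)
    (hdim : ringKrullDim A = d) {G : MvPolynomial (Fin d) A} {n : ℕ} (hG : G.IsHomogeneous n)
    (h : eval x G ∈ maximalIdeal A ^ (n + 1)) (e : Fin d →₀ ℕ) : G.coeff e ∈ maximalIdeal A := by
  classical
  by_contra hcon
  let lx : MonomialOrder (Fin d) := MonomialOrder.lex
  obtain ⟨β, hβ, hmax⟩ := (G.support.filter fun e => G.coeff e ∉ maximalIdeal A).exists_max_image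
    lx.toSyn ⟨e, Finset.mem_filter.2 ⟨MvPolynomial.mem_support_iff.2 fun he =>
      hcon (he ▸ zero_mem _), hcon⟩⟩
  obtain ⟨hβs, hβm⟩ := Finset.mem_filter.1 hβ
  have hdeg : ∀ e ∈ G.support, Finsupp.degree e = n := fun e he => (hG.degree_eq_sum_deg_support he).symm
  set m := maximalIdeal A
  -- every monomial is a combination of monomials not divisible by `x ^ β`
  have key : ∀ j (f : Fin d →₀ ℕ), f.degree = j →
      monEval x f ∈ m ^ (j + 1) ⊔ Ideal.span (monEval x '' {g | g.degree = j ∧ ¬ β ≤ g}) := by
    intro j f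
    refine WellFounded.induction (C := fun f => f.degree = j →
      monEval x f ∈ m ^ (j + 1) ⊔ Ideal.span (monEval x '' {g | g.degree = j ∧ ¬ β ≤ g}))
      (InvImage.wf lx.toSyn wellFounded_lt) f ?_
    intro f ih hf
    by_cases hle : β ≤ f
    · obtain ⟨γ, rfl⟩ := le_iff_exists_add.1 hle
      have hu : IsUnit (G.coeff β) := IsLocalRing.notMem_maximalIdeal.1 hβm
      rw [← Ideal.unit_mul_mem_iff_mem _ hu]
      have hj : j = n + γ.degree := by rw [← hf, map_add, hdeg β hβs]
      have h1 : G.coeff β * monEval x (β + γ) = eval x G * monEval x γ -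
          ∑ a ∈ G.support.erase β, G.coeff a * monEval x (a + γ) := by
        rw [eval_eq', Finset.sum_mul, ← Finset.add_sum_erase _ _ hβs]
        have : ∀ a, G.coeff a * (∏ i, x i ^ a i) * monEval x γ = G.coeff a * monEval x (a + γ) :=
          fun a => by rw [monEval_add]; simp [monEval, mul_assoc]
        simp only [this, add_sub_cancel_right]
      rw [h1]
      refine sub_mem (Ideal.mem_sup_left ?_) (Ideal.sum_mem _ fun a ha => ?_)
      · rw [show j + 1 = n + 1 + γ.degree by omega, pow_add]
        exact Ideal.mul_mem_mul h (monEval_mem hx γ)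
      · have has := Finset.mem_of_mem_erase ha
        have hda : (a + γ).degree = j := by rw [map_add, hdeg a has, hj]
        by_cases hc : G.coeff a ∈ m
        · refine Ideal.mem_sup_left ?_
          rw [pow_succ', ← hda]
          exact Ideal.mul_mem_mul hc (monEval_mem hx _)
        · refine Ideal.mul_mem_left _ _ (ih (a + γ) ?_ hda)
          have hle' := hmax a (Finset.mem_filter.2 ⟨has, hc⟩)
          show lx.toSyn (a + γ) < lx.toSyn (β + γ)
          rw [map_add, map_add]
          refine add_lt_add_of_lt_of_le (lt_of_le_of_ne hle' fun heq => ?_) le_rfl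
          exact Finset.ne_of_mem_erase ha (lx.toSyn.injective heq)
    · exact Ideal.mem_sup_right (Ideal.subset_span ⟨f, ⟨hf, hle⟩, rfl⟩)
  -- the monomials which remain
  have hcard : ∀ t : ℕ, ∃ T : Finset (Fin d →₀ ℕ), T.card * t ≤ n * t ^ d ∧
      ∀ g : Fin d →₀ ℕ, g.degree < t → ¬ β ≤ g → g ∈ T := by
    intro t
    refine ⟨Finset.univ.biUnion fun i => (Fintype.piFinset fun l =>
      if l = i then Finset.range (β i) else Finset.range t).image Finsupp.equivFunOnFinite.symm,
      ?_, fun g hg hng => ?_⟩
    · refine (Nat.mul_le_mul_right t Finset.card_biUnion_le).trans ?_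
      rw [Finset.sum_mul]
      refine (Finset.sum_le_sum (g := fun i => β i * t ^ d) fun i _ => ?_).trans ?_
      · refine (Nat.mul_le_mul_right t Finset.card_image_le).trans (le_of_eq ?_)
        rw [Fintype.card_piFinset, ← Finset.mul_prod_erase _ _ (Finset.mem_univ i), if_pos rfl,
          Finset.prod_congr rfl (fun l hl => by rw [if_neg (Finset.ne_of_mem_erase hl)]),
          Finset.prod_const, Finset.card_range, Finset.card_range,
          Finset.card_erase_of_mem (Finset.mem_univ i), Finset.card_univ, Fintype.card_fin,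
          mul_assoc, ← pow_succ, Nat.sub_add_cancel i.pos]
      · rw [← Finset.sum_mul, ← Finsupp.degree_eq_sum, hdeg β hβs]
    · obtain ⟨i, hi⟩ : ∃ i, g i < β i := by
        by_contra h'
        push Not at h'
        exact hng h'
      refine Finset.mem_biUnion.2 ⟨i, Finset.mem_univ i, Finset.mem_image.2 ⟨g, ?_, by simp⟩⟩
      rw [Fintype.mem_piFinset]
      intro l
      split_ifs with hl
      · subst hl; exact Finset.mem_range.2 hi
      · refine Finset.mem_range.2 (lt_of_le_of_lt ?_ hg)
        exact Finsupp.le_degree l g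
  -- length estimate
  have hlen : ∀ t, ∀ T : Finset (Fin d →₀ ℕ),
      (∀ g : Fin d →₀ ℕ, g.degree < t → ¬ β ≤ g → g ∈ T) →
      Module.length A (A ⧸ m ^ t) ≤ (T.filter fun g => g.degree < t).card := by
    intro t
    induction t with
    | zero =>
      intro T _
      haveI : Subsingleton (A ⧸ m ^ 0) := Ideal.Quotient.subsingleton_iff.2 (by simp)
      simp [Module.length_eq_zero]
    | succ t ih =>
      intro T hT
      let s := (T.filter fun g => g.degree = t).image (monEval x)
      have h1 := length_le_add_card (m ^ (t + 1)) s fun g hg a ha => by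
        obtain ⟨f, hf, rfl⟩ := Finset.mem_image.1 hg
        rw [pow_succ', ← (Finset.mem_filter.1 hf).2]
        exact Ideal.mul_mem_mul ha (monEval_mem hx f)
      have h2 : m ^ t ≤ m ^ (t + 1) ⊔ Ideal.span (s : Set A) := by
        intro a ha
        obtain ⟨H, hH, rfl⟩ := exists_homogeneous_eval x t (hx.symm ▸ ha)
        rw [eval_eq']
        refine Ideal.sum_mem _ fun f hf => Ideal.mul_mem_left _ _ ?_
        have hle : m ^ (t + 1) ⊔ Ideal.span (monEval x '' {g | g.degree = t ∧ ¬ β ≤ g}) ≤
            m ^ (t + 1) ⊔ Ideal.span (s : Set A) := sup_le_sup le_rfl (Ideal.span_mono ?_)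
        · exact hle (key t f (hH.degree_eq_sum_deg_support hf).symm)
        rintro _ ⟨g, ⟨hg, hng⟩, rfl⟩
        exact Finset.mem_coe.2 (Finset.mem_image.2
          ⟨g, Finset.mem_filter.2 ⟨hT g (by omega) hng, hg⟩, rfl⟩)
      refine h1.trans (le_trans (add_le_add (SopLength.length_mono h2)
        (Nat.cast_le.2 Finset.card_image_le)) ?_)
      refine (add_le_add (ih T fun g hg => hT g (hg.trans (Nat.lt_succ_self t))) le_rfl).trans ?_
      rw [← Nat.cast_add, Nat.cast_le, ← Finset.card_union_of_disjoint]
      · refine Finset.card_le_card fun g hg => ?_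
        simp only [Finset.mem_union, Finset.mem_filter] at hg ⊢
        rcases hg with ⟨h3, h4⟩ | ⟨h3, h4⟩ <;> exact ⟨h3, by omega⟩
      · rw [Finset.disjoint_filter]
        intro g _ h3 h4
        omega
  obtain ⟨C, hC⟩ := SopLength.exists_pow_le_length d A hdim
  set t := C * n + 1
  obtain ⟨T, hT, hT'⟩ := hcard t
  have h3 : t ^ d ≤ C * T.card := by
    have := (hC t (Nat.succ_pos _)).trans (mul_le_mul' le_rfl ((hlen t T hT').trans
      (Nat.cast_le.2 (Finset.card_filter_le _ _))))
    exact_mod_cast this
  have h4 : t ^ d * t ≤ C * n * t ^ d :=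
    (Nat.mul_le_mul_right t h3).trans (by rw [mul_assoc, mul_assoc]; exact Nat.mul_le_mul_left C hT)
  have h5 : 0 < t ^ d := Nat.pow_pos (Nat.succ_pos _)
  have h6 : t ^ d * t = C * n * t ^ d + t ^ d := by
    rw [show t = C * n + 1 from rfl]; ring
  omega

end Groth.Agent.RegLoc
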