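import Groth.Agent.RegLoc.QuasiRegular
import Groth.Agent.RegIdeal.CotBasis
import Mathlib

/-!
A local map into a regular local ring which is injective on cotangent spaces is injective.
-/

set_option autoImplicit false
set_option linter.style.haveILetI false
universe u

namespace Groth.Agent.RegLoc

open MvPolynomial IsLocalRing

/-- A local homomorphism to a regular local ring without residue extension, injective on cotangent spaces,
is injective. -/
theorem injective_of_cotangent {A B : Type u} [CommRing A] [IsLocalRing A] [IsNoetherianRing A] [CommRing B]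
    [IsRegularLocalRing B] (φ : A →+* B) [IsLocalHom φ]
    (hres : ∀ b : B, ∃ a : A, b - φ a ∈ maximalIdeal B)
    (hcot : ∀ a ∈ maximalIdeal A, φ a ∈ maximalIdeal B ^ 2 → a ∈ maximalIdeal A ^ 2) :
    Function.Injective φ := by
  classical
  have hmem : ∀ a, φ a ∈ maximalIdeal B ↔ a ∈ maximalIdeal A := fun a => by
    simp only [mem_maximalIdeal, mem_nonunits_iff, isUnit_map_iff]
  -- generators of the maximal ideal of `A`
  let bA := Module.finBasis (ResidueField A) (CotangentSpace A)
  choose t ht using fun i => (maximalIdeal A).toCotangent_surjective (bA i)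
  have htli : LinearIndependent (A ⧸ maximalIdeal A) fun i => (maximalIdeal A).toCotangent (t i) := by
    have : (fun i => (maximalIdeal A).toCotangent (t i)) = bA := funext ht
    rw [this]; exact bA.linearIndependent
  have htsp : Ideal.span (Set.range fun i => (t i : A)) = maximalIdeal A := by
    refine RegIdeal.span_eq_of_span_toCotangent _ le_rfl (maximalIdeal A).fg_of_isNoetherianRing t ?_
    have : (fun i => (maximalIdeal A).toCotangent (t i)) = bA := funext ht
    rw [this]; exact bA.span_eq
  -- their images extend to a regular system of parameters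
  let u : Fin (Module.finrank (ResidueField A) (CotangentSpace A)) → maximalIdeal B :=
    fun i => ⟨φ (t i), (hmem _).2 (t i).2⟩
  let v : Fin (Module.finrank (ResidueField A) (CotangentSpace A)) → CotangentSpace B :=
    fun i => (maximalIdeal B).toCotangent (u i)
  have hv : LinearIndependent (ResidueField B) v := by
    refine (RegIdeal.linearIndependent_toCotangent_iff (maximalIdeal B) u).2 fun c hc i => ?_
    choose a ha using fun i => hres (c i)
    have h2 : φ (∑ i, a i * (t i : A)) ∈ maximalIdeal B ^ 2 := by
      have h3 : φ (∑ i, a i * (t i : A)) = (∑ i, c i * (u i : B)) - ∑ i, (c i - φ (a i)) * (u i : B) := by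
        rw [map_sum, ← Finset.sum_sub_distrib]
        refine Finset.sum_congr rfl fun i _ => ?_
        rw [map_mul]; simp only [u]; ring
      rw [h3]
      refine sub_mem hc (Ideal.sum_mem _ fun i _ => ?_)
      rw [pow_two]
      exact Ideal.mul_mem_mul (ha i) (u i).2
    have h4 := (RegIdeal.linearIndependent_toCotangent_iff (maximalIdeal A) t).1 htli a
      (hcot _ (Ideal.sum_mem _ fun i _ => Ideal.mul_mem_left _ _ (t i).2) h2) i
    have := add_mem (ha i) ((hmem _).2 h4)
    rwa [sub_add_cancel] at this
  have hs : LinearIndepOn (ResidueField B) id (Set.range v) := hv.linearIndepOn_id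
  let bB := Module.Basis.extend hs
  let σ := ↥(hs.extend (Set.subset_univ (Set.range v)))
  haveI : Fintype σ := FiniteDimensional.fintypeBasisIndex bB
  let eqv : σ ≃ Fin (Fintype.card σ) := Fintype.equivFin σ
  let e : Fin (Module.finrank (ResidueField A) (CotangentSpace A)) → Fin (Fintype.card σ) :=
    fun i => eqv ⟨v i, Module.Basis.subset_extend hs ⟨i, rfl⟩⟩
  have he : Function.Injective e := fun i j h => hv.injective (congrArg Subtype.val (eqv.injective h))
  choose l hl using fun b : σ => (maximalIdeal B).toCotangent_surjective (b : CotangentSpace B)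
  let x : Fin (Fintype.card σ) → maximalIdeal B := fun j =>
    if h : ∃ i, e i = j then u h.choose else l (eqv.symm j)
  have hxe : ∀ i, x (e i) = u i := fun i => by
    have h : ∃ i', e i' = e i := ⟨i, rfl⟩
    simp only [x, dif_pos h, he h.choose_spec]
  have hxv : ∀ j, (maximalIdeal B).toCotangent (x j) = bB (eqv.symm j) := fun j => by
    rw [Module.Basis.extend_apply_self]
    by_cases h : ∃ i, e i = j
    · obtain ⟨i, rfl⟩ := h
      rw [hxe]
      simp only [e, Equiv.symm_apply_apply]
      rfl
    · simp only [x, dif_neg h, hl]
  have hxsp : Ideal.span (Set.range fun j => (x j : B)) = maximalIdeal B := by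
    refine RegIdeal.span_eq_of_span_toCotangent _ le_rfl (maximalIdeal B).fg_of_isNoetherianRing x ?_
    have : (fun j => (maximalIdeal B).toCotangent (x j)) = bB ∘ eqv.symm := funext hxv
    rw [this, eqv.symm.surjective.range_comp]
    exact bB.span_eq
  have hdim : ringKrullDim B = Fintype.card σ := by
    rw [← (IsRegularLocalRing.iff_finrank_cotangentSpace B).1 ‹_›, Module.finrank_eq_card_basis bB]
  -- coefficient comparison
  have step : ∀ n, ∀ a ∈ maximalIdeal A ^ n, φ a = 0 → a ∈ maximalIdeal A ^ (n + 1) := by
    intro n a ha h0
    obtain ⟨G, hG, hGa⟩ := exists_homogeneous_eval (fun i => (t i : A)) n (htsp.symm ▸ ha)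
    let G' := rename e (MvPolynomial.map φ G)
    have hG' : eval (fun j => (x j : B)) G' = φ a := by
      rw [eval_rename, MvPolynomial.eval_map, show (fun j => (x j : B)) ∘ e = fun i => φ (t i) from
        funext fun i => congrArg Subtype.val (hxe i), ← hGa]
      exact (MvPolynomial.eval₂_comp φ _ G).symm
    have hc : ∀ f, G.coeff f ∈ maximalIdeal A := fun f => by
      have := coeff_mem_of_eval_mem hxsp hdim ((hG.map φ).rename_isHomogeneous (f := e))
        (by rw [hG', h0]; exact zero_mem _) (f.mapDomain e)
      rwa [coeff_rename_mapDomain e he, MvPolynomial.coeff_map, hmem] at this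
    rw [← hGa, eval_eq', pow_succ']
    refine Ideal.sum_mem _ fun f hf => Ideal.mul_mem_mul (hc f) ?_
    rw [← (hG.degree_eq_sum_deg_support hf).symm]
    exact monEval_mem htsp f
  refine (injective_iff_map_eq_zero φ).2 fun a ha => ?_
  have hall : ∀ n, a ∈ maximalIdeal A ^ n := fun n => by
    induction n with
    | zero => simp
    | succ n ih => exact step n a ih ha
  have := Ideal.iInf_pow_eq_bot_of_isLocalRing (maximalIdeal A) (maximalIdeal.isMaximal A).ne_top
  exact (Ideal.mem_bot).1 (this.le (Ideal.mem_iInf.2 hall))

end Groth.Agent.RegLoc
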