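import Groth.Agent.RegLoc.Order
import Mathlib.RingTheory.Valuation.ExtendToLocalization
import Mathlib.RingTheory.DiscreteValuationRing.Basic
import Mathlib.RingTheory.AlgebraicIndependent.Basic
import Mathlib.FieldTheory.IntermediateField.Adjoin.Basic

/-!
The valuation ring of the order valuation and its residue field.
-/

universe u

namespace Groth.Agent.RegLoc

open MvPolynomial IsLocalRing WithZero

variable (A : Type u) [CommRing A] [IsRegularLocalRing A]
variable (K : Type u) [Field K] [Algebra A K] [IsFractionRing A K]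

theorem le_supp_primeCompl [IsDomain A] :
    nonZeroDivisors A ≤ (ordVal A).supp.primeCompl := fun a ha h =>
  nonZeroDivisors.ne_zero ha (ordVal_eq_zero_iff.1 h)

/-- the order valuation on the fraction field -/
noncomputable def fracVal [IsDomain A] : Valuation K ℤᵐ⁰ :=
  (ordVal A).extendToLocalization (le_supp_primeCompl A) K

theorem fracVal_algebraMap [IsDomain A] (a : A) : fracVal A K (algebraMap A K a) = ordVal A a :=
  Valuation.extendToLocalization_apply_map_apply _ _ _ a

/-- the valuation ring of the order valuation -/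
noncomputable def orderRing [IsDomain A] : Subalgebra A K where
  carrier := {z | fracVal A K z ≤ 1}
  mul_mem' := fun {a b} ha hb => by
    show fracVal A K (a * b) ≤ 1
    rw [map_mul]; exact mul_le_one' ha hb
  add_mem' := fun {a b} ha hb => (fracVal A K).map_add_le ha hb
  algebraMap_mem' := fun a => by
    show fracVal A K (algebraMap A K a) ≤ 1
    rw [fracVal_algebraMap]; exact ordVal_le_one a

variable [IsDomain A]

theorem mem_orderRing {z : K} : z ∈ orderRing A K ↔ fracVal A K z ≤ 1 := Iff.rfl

theorem isUnit_orderRing_iff {z : orderRing A K} : IsUnit z ↔ fracVal A K (z : K) = 1 := by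
  constructor
  · rintro ⟨w, rfl⟩
    have h1 : fracVal A K (((w : orderRing A K) : K) * ((w⁻¹ : (orderRing A K)ˣ) : orderRing A K)) = 1 := by
      rw [← Subalgebra.coe_mul, Units.mul_inv, Subalgebra.coe_one, map_one]
    rw [map_mul] at h1
    exact le_antisymm (w : orderRing A K).2 (h1.symm.le.trans
      (mul_le_of_le_one_right' ((w⁻¹ : (orderRing A K)ˣ) : orderRing A K).2))
  · intro h
    have h0 : (z : K) ≠ 0 := fun h0 => by simp [h0] at h
    exact IsUnit.of_mul_eq_one ⟨(z : K)⁻¹, by rw [mem_orderRing, map_inv₀, h, inv_one]⟩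
      (Subtype.ext (mul_inv_cancel₀ h0))

instance isLocalRing_orderRing : IsLocalRing (orderRing A K) :=
  IsLocalRing.of_nonunits_add fun a b ha hb => by
    have hlt : ∀ c : orderRing A K, c ∈ nonunits _ ↔ fracVal A K (c : K) < 1 := fun c => by
      rw [mem_nonunits_iff, isUnit_orderRing_iff]
      exact ⟨fun h => lt_of_le_of_ne c.2 h, ne_of_lt⟩
    rw [hlt] at ha hb ⊢
    exact (fracVal A K).map_add_lt ha hb

theorem mem_maximalIdeal_iff {z : orderRing A K} :
    z ∈ maximalIdeal (orderRing A K) ↔ fracVal A K (z : K) < 1 := by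
  rw [IsLocalRing.mem_maximalIdeal, mem_nonunits_iff, isUnit_orderRing_iff]
  exact ⟨fun h => lt_of_le_of_ne z.2 h, ne_of_lt⟩

theorem mk_mem (a : A) (n : ℕ) (ha : a ∈ maximalIdeal A ^ n) {b : A} (hb : b ≠ 0) (hbn : ord b = n) :
    algebraMap A K a / algebraMap A K b ∈ orderRing A K := by
  rw [mem_orderRing, map_div₀, fracVal_algebraMap, fracVal_algebraMap, ordVal_apply hb, hbn]
  exact div_le_one_of_le₀ ((ordVal_le_iff a n).2 ha) zero_le

theorem comap_maximalIdeal :
    (maximalIdeal (orderRing A K)).comap (algebraMap A (orderRing A K)) = maximalIdeal A := by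
  ext a
  rw [Ideal.mem_comap, mem_maximalIdeal_iff]
  show fracVal A K (algebraMap A K a) < 1 ↔ _
  rw [fracVal_algebraMap]
  by_cases ha : a = 0
  · simp [ha]
  rw [ordVal_apply ha, ← exp_zero, exp_lt_exp, neg_lt_zero, Nat.cast_pos]
  constructor
  · intro h
    exact Ideal.pow_le_self h.ne' (ord_spec ha).1
  · intro h
    exact le_ord ha (n := 1) (by rwa [pow_one])

instance isLocalHom_orderRing : IsLocalHom (algebraMap A (orderRing A K)) := by
  refine ⟨fun a ha => ?_⟩
  by_contra hna
  have : a ∈ maximalIdeal A := hna
  rw [← comap_maximalIdeal A K] at this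
  exact this ha

theorem isFractionRing_orderRing : IsFractionRing (orderRing A K) K := by
  refine IsFractionRing.of_field _ K fun z => ?_
  obtain ⟨a, b, hb, rfl⟩ := IsFractionRing.div_surjective (A := A) (K := K) z
  exact ⟨algebraMap A _ a, algebraMap A _ b, rfl⟩

variable {A}

theorem exists_ord_eq_one (hA : ¬ IsField A) : ∃ d : ℕ, ∃ x : Fin d → A, ∃ i : Fin d,
    Ideal.span (Set.range x) = maximalIdeal A ∧ ringKrullDim A = d ∧ x i ≠ 0 ∧ ord (x i) = 1 := by
  obtain ⟨d, x, hx, hdim⟩ := exists_rsop A
  obtain ⟨i, hi⟩ : ∃ i : Fin d, x i ∉ maximalIdeal A ^ 2 := by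
    by_contra h
    push Not at h
    have hle : Ideal.span (Set.range x) ≤ maximalIdeal A ^ 2 := Ideal.span_le.2 (by rintro _ ⟨i, rfl⟩; exact h i)
    rw [hx] at hle
    refine hA (IsLocalRing.isField_iff_maximalIdeal_eq.2 ?_)
    refine Submodule.eq_bot_of_le_smul_of_le_jacobson_bot (maximalIdeal A) _
      (IsNoetherian.noetherian _) (by rwa [smul_eq_mul, ← pow_two]) ?_
    rw [IsLocalRing.jacobson_eq_maximalIdeal (⊥ : Ideal A) bot_ne_top]
  have hne : x i ≠ 0 := fun h => hi (h ▸ zero_mem _)
  refine ⟨d, x, i, hx, hdim, hne, le_antisymm ?_ (le_ord hne ?_)⟩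
  · by_contra h
    exact hi (Ideal.pow_le_pow_right (by omega) (ord_spec hne).1)
  · rw [pow_one, ← hx]; exact Ideal.subset_span ⟨i, rfl⟩

variable (A)

theorem isDiscreteValuationRing_orderRing (hA : ¬ IsField A) :
    IsDiscreteValuationRing (orderRing A K) := by
  obtain ⟨d, x, i, -, -, hne, hord⟩ := exists_ord_eq_one hA
  set p : orderRing A K := algebraMap A _ (x i) with hp
  have hvp : fracVal A K (p : K) = exp (-1 : ℤ) := by
    show fracVal A K (algebraMap A K (x i)) = _
    rw [fracVal_algebraMap, ordVal_apply hne, hord, Nat.cast_one]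
  have hp0 : (p : K) ≠ 0 := fun h => exp_ne_zero (hvp.symm.trans (by rw [h, map_zero]))
  refine IsDiscreteValuationRing.ofHasUnitMulPowIrreducibleFactorization ⟨p, ⟨?_, ?_⟩, ?_⟩
  · rw [isUnit_orderRing_iff, hvp, ← exp_zero, exp_inj]
    omega
  · intro a b hab
    by_contra hcon
    push Not at hcon
    rw [isUnit_orderRing_iff, isUnit_orderRing_iff] at hcon
    have h1 := congrArg (fun z : orderRing A K => fracVal A K (z : K)) hab
    simp only [Subalgebra.coe_mul, map_mul, hvp] at h1
    have ha := lt_of_le_of_ne a.2 hcon.1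
    have hb := lt_of_le_of_ne b.2 hcon.2
    revert h1 ha hb
    induction fracVal A K (a : K) using WithZero.expRecOn with
    | zero => intro h; rw [zero_mul] at h; exact fun _ => (exp_ne_zero h).elim
    | exp r =>
      induction fracVal A K (b : K) using WithZero.expRecOn with
      | zero => intro h; rw [mul_zero] at h; exact fun _ => (exp_ne_zero h).elim
      | exp s =>
        intro h hr hs
        rw [← exp_add, exp_inj] at h
        rw [← exp_zero, exp_lt_exp] at hr hs
        omega
  · intro z hz
    have hz0 : (z : K) ≠ 0 := fun h => hz (Subtype.ext h)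
    obtain ⟨r, hr⟩ : ∃ r, fracVal A K (z : K) = exp r :=
      ⟨_, (exp_log ((Valuation.ne_zero_iff _).2 hz0)).symm⟩
    have hr0 : r ≤ 0 := by
      have := z.2
      rw [mem_orderRing, hr, ← exp_zero, exp_le_exp] at this
      exact this
    refine ⟨(-r).toNat, ?_⟩
    have hpow : fracVal A K ((p : K) ^ (-r).toNat) = exp r := by
      rw [map_pow, hvp, ← exp_nsmul]
      congr 1
      simp
      omega
    have hmem : (z : K) / (p : K) ^ (-r).toNat ∈ orderRing A K := by
      rw [mem_orderRing, map_div₀, hr, hpow, div_self exp_ne_zero]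
    have hu : IsUnit (⟨_, hmem⟩ : orderRing A K) := by
      rw [isUnit_orderRing_iff, map_div₀, hr, hpow, div_self exp_ne_zero]
    refine ⟨hu.unit, Subtype.ext ?_⟩
    rw [Subalgebra.coe_mul, SubmonoidClass.coe_pow]
    show (p : K) ^ (-r).toNat * ((z : K) / (p : K) ^ (-r).toNat) = z
    rw [mul_div_cancel₀ _ (pow_ne_zero _ hp0)]

theorem exists_residue_generators (hA : ¬ IsField A) :
    letI := (ResidueField.map (algebraMap A (orderRing A K))).toAlgebra
    ∃ (ι : Type u) (t : ι → ResidueField (orderRing A K)),
      AlgebraicIndependent (ResidueField A) t ∧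
        IntermediateField.adjoin (ResidueField A) (Set.range t) = ⊤ := by
  letI := (ResidueField.map (algebraMap A (orderRing A K))).toAlgebra
  classical
  obtain ⟨d, x, i₀, hx, hdim, hne, hord⟩ := exists_ord_eq_one hA
  set x₀ := algebraMap A K (x i₀) with hx₀
  have hx0 : x₀ ≠ 0 := (map_ne_zero_iff _ (IsFractionRing.injective A K)).2 hne
  have hwmem : ∀ i, algebraMap A K (x i) / x₀ ∈ orderRing A K := fun i =>
    mk_mem A K (x i) 1 (by rw [pow_one, ← hx]; exact Ideal.subset_span ⟨i, rfl⟩) hne hord
  let w : Fin d → orderRing A K := fun i => ⟨_, hwmem i⟩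
  have hscale : ∀ {n : ℕ} {G : MvPolynomial (Fin d) A}, G.IsHomogeneous n →
      algebraMap A K (eval x G) = x₀ ^ n * ((aeval w G : orderRing A K) : K) := by
    intro n G hG
    have h1 : ((aeval w G : orderRing A K) : K) = aeval (fun i => algebraMap A K (x i) / x₀) G :=
      (map_aeval w (orderRing A K).val.toRingHom G).trans
        (by rw [aeval_def]; congr 1)
    rw [h1, aeval_def, eval_eq', eval₂_eq', map_sum, Finset.mul_sum]
    refine Finset.sum_congr rfl fun e he => ?_
    rw [map_mul, map_prod, mul_left_comm]
    congr 1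
    have hn : ∑ i, e i = n := by
      rw [← Finsupp.degree_eq_sum]; exact (hG.degree_eq_sum_deg_support he).symm
    rw [← hn, ← Finset.prod_pow_eq_pow_sum,
      ← Finset.prod_mul_distrib]
    refine Finset.prod_congr rfl fun i _ => ?_
    rw [map_pow, ← mul_pow, mul_div_cancel₀ _ hx0]
  have hvx : ∀ n : ℕ, fracVal A K (x₀ ^ n) = exp (-(n : ℤ)) := by
    intro n
    rw [map_pow, fracVal_algebraMap, ordVal_apply hne, hord, ← exp_nsmul]
    simp
  let ι := ULift.{u} {i : Fin d // i ≠ i₀}
  let t : ι → ResidueField (orderRing A K) := fun i => residue _ (w i.down.1)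
  refine ⟨ι, t, ?_, ?_⟩
  · rw [algebraicIndependent_iff]
    intro P hP
    obtain ⟨Q, rfl⟩ := MvPolynomial.map_surjective (residue A) residue_surjective P
    let emb : ι → Fin d := fun i => i.down.1
    have hemb : Function.Injective emb := fun a b h => ULift.down_injective (Subtype.ext h)
    let N := Q.totalDegree
    let hom : (ι →₀ ℕ) → Fin d →₀ ℕ := fun e =>
      e.mapDomain emb + Finsupp.single i₀ (N - e.degree)
    let G : MvPolynomial (Fin d) A := ∑ e ∈ Q.support, monomial (hom e) (Q.coeff e)
    have hG : G.IsHomogeneous N := IsHomogeneous.sum _ _ _ fun e he => by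
      refine isHomogeneous_monomial _ ?_
      have : e.degree ≤ N := le_totalDegree he
      simp only [hom, map_add, Finsupp.degree_single, Finsupp.degree_mapDomain]
      omega
    have hhom : Function.Injective hom := by
      intro e f h
      ext i
      have h1 := congrArg (fun g : Fin d →₀ ℕ => g (emb i)) h
      have h2 : i₀ ≠ emb i := fun h => i.down.2 h.symm
      simpa [hom, Finsupp.mapDomain_apply hemb, h2] using h1
    have hGw : aeval w G = aeval (fun i : ι => w (emb i)) Q := by
      conv_rhs => rw [Q.as_sum]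
      simp only [G, map_sum, aeval_monomial, hom]
      refine Finset.sum_congr rfl fun e _ => ?_
      congr 1
      rw [Finsupp.prod_add_index' (by simp) (fun a b c => pow_add _ _ _),
        Finsupp.prod_mapDomain_index_inj hemb, Finsupp.prod_single_index (by simp),
        show w i₀ = 1 from Subtype.ext (div_self hx0), one_pow, mul_one]
    have hres : residue _ (aeval w G) = 0 := by
      rw [hGw, aeval_def, eval₂_comp_left (residue (orderRing A K)), ← ResidueField.map_comp_residue,
        ← eval₂_map]
      exact hP
    rw [residue_eq_zero_iff, mem_maximalIdeal_iff] at hres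
    have hev : ordVal A (eval x G) < exp (-(N : ℤ)) := by
      rw [← fracVal_algebraMap A K, hscale hG, map_mul, hvx]
      exact mul_lt_of_lt_one_right (exp_pos) hres
    have hmem : eval x G ∈ maximalIdeal A ^ (N + 1) := by
      by_cases h0 : eval x G = 0
      · simp [h0]
      rw [ordVal_apply h0, exp_lt_exp] at hev
      exact Ideal.pow_le_pow_right (by omega) (ord_spec h0).1
    ext e
    rw [coeff_map, coeff_zero, residue_eq_zero_iff]
    have hGe : G.coeff (hom e) = Q.coeff e := by
      simp only [G, coeff_sum, coeff_monomial]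
      rw [Finset.sum_eq_single e]
      · rw [if_pos rfl]
      · intro f _ hf
        exact if_neg fun h => hf (hhom h)
      · intro he
        rw [if_pos rfl, notMem_support_iff.1 he]
    exact hGe ▸ coeff_mem_of_eval_mem hx hdim hG hmem (hom e)
  · rw [eq_top_iff]
    rintro r -
    obtain ⟨z, rfl⟩ := residue_surjective r
    set L := IntermediateField.adjoin (ResidueField A) (Set.range t)
    have hw : ∀ G : MvPolynomial (Fin d) A, residue _ (aeval w G) ∈ L := by
      intro G
      induction G using MvPolynomial.induction_on with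
      | C a =>
        rw [aeval_C]
        exact L.algebraMap_mem (residue A a)
      | add p q hp hq => rw [map_add, map_add]; exact add_mem hp hq
      | mul_X p i hp =>
        rw [map_mul, map_mul, aeval_X]
        refine mul_mem hp ?_
        by_cases hi : i = i₀
        · subst hi
          rw [show w i = 1 from Subtype.ext (div_self hx0), map_one]
          exact one_mem L
        · exact IntermediateField.subset_adjoin _ _ ⟨⟨⟨i, hi⟩⟩, rfl⟩
    by_cases hz : z ∈ maximalIdeal (orderRing A K)
    · rw [(residue_eq_zero_iff z).2 hz]; exact zero_mem L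
    obtain ⟨a, b, hb, hab⟩ := IsFractionRing.div_surjective (A := A) (K := K) (z : K)
    have hb0 : b ≠ 0 := nonZeroDivisors.ne_zero hb
    have hz1 : fracVal A K (z : K) = 1 :=
      le_antisymm z.2 (not_lt.1 fun h => hz ((mem_maximalIdeal_iff A K).2 h))
    rw [← hab, map_div₀, fracVal_algebraMap, fracVal_algebraMap] at hz1
    have heq : ordVal A a = ordVal A b := eq_of_div_eq_one hz1
    have ha0 : a ≠ 0 := fun h => by rw [h, map_zero, zero_div] at hz1; exact zero_ne_one hz1
    rw [ordVal_apply ha0, ordVal_apply hb0, exp_inj] at heq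
    set n := ord b
    have hmema : a ∈ maximalIdeal A ^ n := by
      have := (ord_spec ha0).1
      rwa [show ord a = n by omega] at this
    obtain ⟨G, hG, hGa⟩ := exists_homogeneous_eval x n (hx.symm ▸ hmema)
    obtain ⟨H, hH, hHb⟩ := exists_homogeneous_eval x n (hx.symm ▸ (ord_spec hb0).1)
    have ea := hscale hG
    have eb := hscale hH
    rw [hGa] at ea
    rw [hHb] at eb
    have hHu : IsUnit (aeval w H : orderRing A K) := by
      rw [isUnit_orderRing_iff]
      have h1 := congrArg (fracVal A K) eb
      rw [fracVal_algebraMap, ordVal_apply hb0, map_mul, hvx] at h1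
      exact mul_left_cancel₀ exp_ne_zero (h1.symm.trans (mul_one _).symm)
    have hzeq : z * aeval w H = aeval w G := by
      apply Subtype.ext
      rw [Subalgebra.coe_mul, ← hab, ea, eb]
      have : ((aeval w H : orderRing A K) : K) ≠ 0 := fun h =>
        hHu.ne_zero (Subtype.ext h)
      field_simp
    have hz2 : residue _ z = residue _ (aeval w G) / residue _ (aeval w H) := by
      rw [eq_div_iff (hHu.map _).ne_zero, ← map_mul, hzeq]
    rw [hz2]
    exact div_mem (hw G) (hw H)

theorem exists_dvr (hA : ¬ IsField A) :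
    ∃ (V : Subalgebra A K) (_ : IsDomain V) (_ : IsDiscreteValuationRing V), IsFractionRing V K ∧
      (maximalIdeal V).comap (algebraMap A V) = maximalIdeal A ∧
      ∃ (φ : ResidueField A →+* ResidueField V),
        φ.comp (residue A) = (residue V).comp (algebraMap A V) ∧
        letI := φ.toAlgebra
        ∃ (ι : Type u) (t : ι → ResidueField V), AlgebraicIndependent (ResidueField A) t ∧
          IntermediateField.adjoin (ResidueField A) (Set.range t) = ⊤ :=
  ⟨orderRing A K, inferInstance, isDiscreteValuationRing_orderRing A K hA,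
    isFractionRing_orderRing A K, comap_maximalIdeal A K,
    ResidueField.map (algebraMap A (orderRing A K)), ResidueField.map_comp_residue _,
    exists_residue_generators A K hA⟩

end Groth.Agent.RegLoc
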